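import Cfsg.Agent.Lib.Helper35.Fi22Ord.U1.Check
import Cfsg.Agent.Lib.Helper35.Fi22Ord.U2.Check
import Cfsg.Agent.Lib.Helper35.Fi22Ord.U3.Check
import Cfsg.Agent.Lib.Helper35.Fi22Ord.U4.Check
import Cfsg.Agent.Lib.Helper35.Fi22Ord.U5.Check
import Cfsg.Agent.Lib.Helper35.Fi22Ord.U6.Check
import Cfsg.Agent.Lib.Helper35.Fi22Ord.U7.Check
import Cfsg.Agent.Lib.Helper35.Fi22Ord.U8.Check
import Cfsg.Agent.Lib.Helper35.Fi22Ord.Y0.Check
import Cfsg.Agent.Lib.Helper35.Fi22Ord.Y1.Check
import Cfsg.Agent.Lib.Helper35.Fi22Ord.X0.Fin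
import Cfsg.Agent.Lib.Helper35.Fi22Ord.X1.Fin
import Cfsg.Agent.Lib.Helper35.Fi22b.Check

namespace Cfsg.Agent.Lib.Helper35.Fi22Ord

open Cfsg.Agent.Lib.Helper35 Cfsg.Spor

set_option maxRecDepth 100000

noncomputable def I : PresIface Fi22 := coxIface Fi22.edges Fi22.extra PresFi22.cc PresFi22.extraL PresFi22.R PresFi22.allGens PresFi22.hall PresFi22.hOK PresFi22.hextra
theorem up9 : Finite (wsub I.val ([] : List (List Nat))) ∧ Nat.card (wsub I.val ([] : List (List Nat))) ≤ 1 := upper_nil I.val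
theorem up8 : Finite (wsub I.val [[3]]) ∧ Nat.card (wsub I.val [[3]]) ≤ 2 :=
  upper_cons 2 1 2 up9 (fun hf => card_upper_step I.val I.inv I.hinv [[3]] ([] : List (List Nat)) U8.invL U8.R U8.S 2
    (by decide +kernel) (by decide +kernel)
    (fun b hb => I.hR _ ((by decide +kernel : ∀ b ∈ U8.R, expand [[3]] b ∈ PresFi22.R) b hb))
    (by decide +kernel) U8.certData hf) (by decide +kernel)
theorem up7 : Finite (wsub I.val [[3], [4]]) ∧ Nat.card (wsub I.val [[3], [4]]) ≤ 6 :=
  upper_cons 3 2 6 up8 (fun hf => card_upper_step I.val I.inv I.hinv [[3], [4]] [[3]] U7.invL U7.R U7.S 3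
    (by decide +kernel) (by decide +kernel)
    (fun b hb => I.hR _ ((by decide +kernel : ∀ b ∈ U7.R, expand [[3], [4]] b ∈ PresFi22.R) b hb))
    (by decide +kernel) U7.certData hf) (by decide +kernel)
theorem up6 : Finite (wsub I.val [[3], [4], [7]]) ∧ Nat.card (wsub I.val [[3], [4], [7]]) ≤ 24 :=
  upper_cons 4 6 24 up7 (fun hf => card_upper_step I.val I.inv I.hinv [[3], [4], [7]] [[3], [4]] U6.invL U6.R U6.S 4
    (by decide +kernel) (by decide +kernel)
    (fun b hb => I.hR _ ((by decide +kernel : ∀ b ∈ U6.R, expand [[3], [4], [7]] b ∈ PresFi22.R) b hb))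
    (by decide +kernel) U6.certData hf) (by decide +kernel)
theorem up5 : Finite (wsub I.val [[2], [3], [4], [7]]) ∧ Nat.card (wsub I.val [[2], [3], [4], [7]]) ≤ 192 :=
  upper_cons 8 24 192 up6 (fun hf => card_upper_step I.val I.inv I.hinv [[2], [3], [4], [7]] [[3], [4], [7]] U5.invL U5.R U5.S 8
    (by decide +kernel) (by decide +kernel)
    (fun b hb => I.hR _ ((by decide +kernel : ∀ b ∈ U5.R, expand [[2], [3], [4], [7]] b ∈ PresFi22.R) b hb))
    (by decide +kernel) U5.certData hf) (by decide +kernel)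
theorem up4 : Finite (wsub I.val [[2], [3], [4], [5], [7]]) ∧ Nat.card (wsub I.val [[2], [3], [4], [5], [7]]) ≤ 1920 :=
  upper_cons 10 192 1920 up5 (fun hf => card_upper_step I.val I.inv I.hinv [[2], [3], [4], [5], [7]] [[2], [3], [4], [7]] U4.invL U4.R U4.S 10
    (by decide +kernel) (by decide +kernel)
    (fun b hb => I.hR _ ((by decide +kernel : ∀ b ∈ U4.R, expand [[2], [3], [4], [5], [7]] b ∈ PresFi22.R) b hb))
    (by decide +kernel) U4.certData hf) (by decide +kernel)
theorem up3 : Finite (wsub I.val [[2], [3], [4], [5], [7], [8]]) ∧ Nat.card (wsub I.val [[2], [3], [4], [5], [7], [8]]) ≤ 51840 :=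
  upper_cons 27 1920 51840 up4 (fun hf => card_upper_step I.val I.inv I.hinv [[2], [3], [4], [5], [7], [8]] [[2], [3], [4], [5], [7]] U3.invL U3.R U3.S 27
    (by decide +kernel) (by decide +kernel)
    (fun b hb => I.hR _ ((by decide +kernel : ∀ b ∈ U3.R, expand [[2], [3], [4], [5], [7], [8]] b ∈ PresFi22.R) b hb))
    (by decide +kernel) U3.certData hf) (by decide +kernel)
theorem up2 : Finite (wsub I.val [[1], [2], [3], [4], [5], [7], [8]]) ∧ Nat.card (wsub I.val [[1], [2], [3], [4], [5], [7], [8]]) ≤ 12597120 :=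
  upper_cons 243 51840 12597120 up3 (fun hf => card_upper_step I.val I.inv I.hinv [[1], [2], [3], [4], [5], [7], [8]] [[2], [3], [4], [5], [7], [8]] U2.invL U2.R U2.S 243
    (by decide +kernel) (by decide +kernel)
    (fun b hb => I.hR _ ((by decide +kernel : ∀ b ∈ U2.R, expand [[1], [2], [3], [4], [5], [7], [8]] b ∈ PresFi22.R) b hb))
    (by decide +kernel) U2.certData hf) (by decide +kernel)
theorem up1 : Finite (wsub I.val [[1], [2], [3], [4], [5], [6], [7], [8]]) ∧ Nat.card (wsub I.val [[1], [2], [3], [4], [5], [6], [7], [8]]) ≤ 4585351680 :=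
  upper_cons 364 12597120 4585351680 up2 (fun hf => card_upper_step I.val I.inv I.hinv [[1], [2], [3], [4], [5], [6], [7], [8]] [[1], [2], [3], [4], [5], [7], [8]] U1.invL U1.R U1.S 364
    (by decide +kernel) (by decide +kernel)
    (fun b hb => I.hR _ ((by decide +kernel : ∀ b ∈ U1.R, expand [[1], [2], [3], [4], [5], [6], [7], [8]] b ∈ PresFi22.R) b hb))
    (by decide +kernel) U1.certData hf) (by decide +kernel)
theorem up0 : Finite (wsub I.val [[0], [1], [2], [3], [4], [5], [6], [7], [8]]) ∧ Nat.card (wsub I.val [[0], [1], [2], [3], [4], [5], [6], [7], [8]]) ≤ 64561751654400 :=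
  upper_cons 14080 4585351680 64561751654400 up1 (fun hf => card_upper_step I.val I.inv I.hinv [[0], [1], [2], [3], [4], [5], [6], [7], [8]] [[1], [2], [3], [4], [5], [6], [7], [8]] PresFi22.cc.invL PresFi22.R Fi22b.S 14080
    (by decide +kernel) (by decide +kernel)
    (fun b hb => I.hR _ ((by decide +kernel : ∀ b ∈ PresFi22.R, expand [[0], [1], [2], [3], [4], [5], [6], [7], [8]] b ∈ PresFi22.R) b hb))
    (by decide +kernel) Fi22b.certData hf) (by decide +kernel)
noncomputable abbrev pv2 := prodVal Fi22a.permData Fi22b.permData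
theorem lo9 : 1 ≤ Nat.card (wsub pv2 ([] : List (List Nat))) := lower_nil pv2
theorem lo8 : 2 ≤ Nat.card (wsub pv2 [[8]]) :=
  lower_cons 2 1 2 lo9 (card_lower_step pv2 [[8]] ([] : List (List Nat)) (by decide +kernel) 3509 (MonoidHom.fst _ _) Fi22a.pt
    (fun s hs i => walk_of_hom pv2 Fi22a.permData (MonoidHom.fst _ _) (fun _ => rfl) s ((by decide +kernel : ∀ s ∈ ([[8]] : List (List Nat)), ∀ c ∈ s, c < PresFi22.cc.C) s hs) i)
    9 2 (by decide +kernel) X0.reach8 X0.fix8) (by decide +kernel)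
theorem lo7 : 6 ≤ Nat.card (wsub pv2 [[7], [8]]) :=
  lower_cons 3 2 6 lo8 (card_lower_step pv2 [[7], [8]] [[8]] (by decide +kernel) 3509 (MonoidHom.fst _ _) Fi22a.pt
    (fun s hs i => walk_of_hom pv2 Fi22a.permData (MonoidHom.fst _ _) (fun _ => rfl) s ((by decide +kernel : ∀ s ∈ ([[7], [8]] : List (List Nat)), ∀ c ∈ s, c < PresFi22.cc.C) s hs) i)
    5 3 (by decide +kernel) X0.reach7 X0.fix7) (by decide +kernel)
theorem lo6 : 24 ≤ Nat.card (wsub pv2 [[3], [7], [8]]) :=
  lower_cons 4 6 24 lo7 (card_lower_step pv2 [[3], [7], [8]] [[7], [8]] (by decide +kernel) 3509 (MonoidHom.fst _ _) Fi22a.pt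
    (fun s hs i => walk_of_hom pv2 Fi22a.permData (MonoidHom.fst _ _) (fun _ => rfl) s ((by decide +kernel : ∀ s ∈ ([[3], [7], [8]] : List (List Nat)), ∀ c ∈ s, c < PresFi22.cc.C) s hs) i)
    3 4 (by decide +kernel) X0.reach6 X0.fix6) (by decide +kernel)
theorem lo5 : 120 ≤ Nat.card (wsub pv2 [[3], [4], [7], [8]]) :=
  lower_cons 5 24 120 lo6 (card_lower_step pv2 [[3], [4], [7], [8]] [[3], [7], [8]] (by decide +kernel) 3509 (MonoidHom.fst _ _) Fi22a.pt
    (fun s hs i => walk_of_hom pv2 Fi22a.permData (MonoidHom.fst _ _) (fun _ => rfl) s ((by decide +kernel : ∀ s ∈ ([[3], [4], [7], [8]] : List (List Nat)), ∀ c ∈ s, c < PresFi22.cc.C) s hs) i)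
    88 5 (by decide +kernel) X0.reach5 X0.fix5) (by decide +kernel)
theorem lo4 : 720 ≤ Nat.card (wsub pv2 [[3], [4], [5], [7], [8]]) :=
  lower_cons 6 120 720 lo5 (card_lower_step pv2 [[3], [4], [5], [7], [8]] [[3], [4], [7], [8]] (by decide +kernel) 3509 (MonoidHom.fst _ _) Fi22a.pt
    (fun s hs i => walk_of_hom pv2 Fi22a.permData (MonoidHom.fst _ _) (fun _ => rfl) s ((by decide +kernel : ∀ s ∈ ([[3], [4], [5], [7], [8]] : List (List Nat)), ∀ c ∈ s, c < PresFi22.cc.C) s hs) i)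
    154 6 (by decide +kernel) X0.reach4 X0.fix4) (by decide +kernel)
theorem lo3 : 5040 ≤ Nat.card (wsub pv2 [[3], [4], [5], [6], [7], [8]]) :=
  lower_cons 7 720 5040 lo4 (card_lower_step pv2 [[3], [4], [5], [6], [7], [8]] [[3], [4], [5], [7], [8]] (by decide +kernel) 3509 (MonoidHom.fst _ _) Fi22a.pt
    (fun s hs i => walk_of_hom pv2 Fi22a.permData (MonoidHom.fst _ _) (fun _ => rfl) s ((by decide +kernel : ∀ s ∈ ([[3], [4], [5], [6], [7], [8]] : List (List Nat)), ∀ c ∈ s, c < PresFi22.cc.C) s hs) i)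
    248 7 (by decide +kernel) X0.reach3 X0.fix3) (by decide +kernel)
theorem lo2 : 1451520 ≤ Nat.card (wsub pv2 [[2], [3], [4], [5], [6], [7], [8]]) :=
  lower_cons 288 5040 1451520 lo3 (card_lower_step pv2 [[2], [3], [4], [5], [6], [7], [8]] [[3], [4], [5], [6], [7], [8]] (by decide +kernel) 3509 (MonoidHom.fst _ _) Fi22a.pt
    (fun s hs i => walk_of_hom pv2 Fi22a.permData (MonoidHom.fst _ _) (fun _ => rfl) s ((by decide +kernel : ∀ s ∈ ([[2], [3], [4], [5], [6], [7], [8]] : List (List Nat)), ∀ c ∈ s, c < PresFi22.cc.C) s hs) i)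
    1 288 (by decide +kernel) X0.reach2 X0.fix2) (by decide +kernel)
theorem lo1 : 4585351680 ≤ Nat.card (wsub pv2 [[1], [2], [3], [4], [5], [6], [7], [8]]) :=
  lower_cons 3159 1451520 4585351680 lo2 (card_lower_step pv2 [[1], [2], [3], [4], [5], [6], [7], [8]] [[2], [3], [4], [5], [6], [7], [8]] (by decide +kernel) 3509 (MonoidHom.fst _ _) Fi22a.pt
    (fun s hs i => walk_of_hom pv2 Fi22a.permData (MonoidHom.fst _ _) (fun _ => rfl) s ((by decide +kernel : ∀ s ∈ ([[1], [2], [3], [4], [5], [6], [7], [8]] : List (List Nat)), ∀ c ∈ s, c < PresFi22.cc.C) s hs) i)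
    0 3159 (by decide +kernel) X0.reach1 X0.fix1) (by decide +kernel)
theorem lo0 : 64561751654400 ≤ Nat.card (wsub pv2 [[0], [1], [2], [3], [4], [5], [6], [7], [8]]) :=
  lower_cons 14080 4585351680 64561751654400 lo1 (card_lower_step pv2 [[0], [1], [2], [3], [4], [5], [6], [7], [8]] [[1], [2], [3], [4], [5], [6], [7], [8]] (by decide +kernel) 14079 (MonoidHom.snd _ _) Fi22b.pt
    (fun s hs i => walk_of_hom pv2 Fi22b.permData (MonoidHom.snd _ _) (fun _ => rfl) s ((by decide +kernel : ∀ s ∈ ([[0], [1], [2], [3], [4], [5], [6], [7], [8]] : List (List Nat)), ∀ c ∈ s, c < PresFi22.cc.C) s hs) i)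
    0 14080 (by decide +kernel) X1.reach0 X1.fix0) (by decide +kernel)
def cnt0 : Nat → Nat := fun k => ([1, 2816, 693] : List Nat).getD k 0
noncomputable def prim0 : PrimData Fi22a.permData 64561751654400 where
  O := Fi22a.orbData
  r := 3
  cnt := cnt0
  hcnt := by
    intro k hk
    interval_cases k
    exacts [Fi22a.ocnt0, Fi22a.ocnt1, Fi22a.ocnt2]
  hsum := by decide +kernel
  hnum := by decide +kernel
  p := 13
  hp := by norm_num
  yw := Y0.yw
  hyC := by decide +kernel
  hnd := by decide +kernel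
  col := Y0.certData
def cnt1 : Nat → Nat := fun k => ([1, 3159, 10920] : List Nat).getD k 0
noncomputable def prim1 : PrimData Fi22b.permData 64561751654400 where
  O := X1.orbData
  r := 3
  cnt := cnt1
  hcnt := by
    intro k hk
    interval_cases k
    exacts [X1.ocnt0, X1.ocnt1, X1.ocnt2]
  hsum := by decide +kernel
  hnum := by decide +kernel
  p := 11
  hp := by norm_num
  yw := Y1.yw
  hyC := by decide +kernel
  hnd := by decide +kernel
  col := Y1.certData
theorem main : IsSimpleGroup Fi22 ∧ Nat.card Fi22 = 64561751654400 :=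
  simple_of_two I Fi22a.permData Fi22b.permData 64561751654400 (by decide +kernel) up0 lo0 prim0 prim1
    X0.yfix0 X1.yfix0 X0.yfix1 X1.yfix1

end Cfsg.Agent.Lib.Helper35.Fi22Ord
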